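import Mathlib

set_option autoImplicit false
set_option linter.style.haveILetI false

/-!
Proper subgroups of a simple group of order 126000 in which every non-trivial element of order 5
fixes one point of an orbit of size 126.
-/

namespace CfsgLib.UThreeFive

open MulAction

variable {G : Type*} [Group G] [Finite G]

/-- Small index contradicts simplicity. -/
theorem card_dvd_factorial [IsSimpleGroup G] (H : Subgroup G) (hH : H ≠ ⊤) :
    Nat.card G ∣ H.index.factorial := by
  have hcore : H.normalCore = ⊥ := by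
    refine (Subgroup.normalCore_normal H).eq_bot_or_eq_top.resolve_right fun h => hH ?_
    exact top_le_iff.1 (h ▸ Subgroup.normalCore_le H)
  have hinj : Function.Injective (MulAction.toPermHom G (G ⧸ H)) := by
    rw [← MonoidHom.ker_eq_bot_iff, ← Subgroup.normalCore_eq_ker, hcore]
  rw [Subgroup.index, ← Nat.card_perm]
  exact Subgroup.card_dvd_of_injective _ hinj

variable {X : Type*} [MulAction G X]

/-- The orbit of the fixed point of a `5`-subgroup has size `≡ 1` modulo its order. -/
theorem exists_orbit_size (hX : Nat.card X = 126)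
    (huniq : ∀ g : G, g ^ 5 = 1 → g ≠ 1 → ∀ x y : X, g • x = x → g • y = y → x = y)
    (hstab : ∀ x : X, Nat.card (stabilizer G x) ∣ 1000)
    (H : Subgroup G) {k : ℕ} (hk : 1 ≤ k) (h5 : 5 ^ k ∣ Nat.card H) :
    ∃ o, o ≤ 126 ∧ o ∣ Nat.card H ∧ o % 5 ^ k = 1 ∧ (o = 1 → Nat.card H ∣ 1000) := by
  classical
  have : Fact (Nat.Prime 5) := ⟨by norm_num⟩
  have : Finite X := Nat.finite_of_card_ne_zero (by omega)
  obtain ⟨P, hP⟩ := Sylow.exists_subgroup_card_pow_prime 5 h5
  have hPg : IsPGroup 5 P := IsPGroup.of_card hP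
  have huniq' : ∀ g : P, g ≠ 1 → ∀ x y : X, g • x = x → g • y = y → x = y := by
    intro g hg x y hx hy
    obtain ⟨e, he⟩ := hPg g
    induction e generalizing g with
    | zero => exact absurd (by simpa using he) hg
    | succ e ih =>
      by_cases h1 : g ^ 5 = 1
      · refine huniq ((g : H) : G) ?_ ?_ x y hx hy
        · rw [← SubmonoidClass.coe_pow, ← SubmonoidClass.coe_pow, h1]; rfl
        · intro h
          exact hg (Subtype.ext (Subtype.ext h))
      · have hfix : ∀ (z : X), g • z = z → ∀ n : ℕ, g ^ n • z = z := fun z hz n => by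
          induction n with
          | zero => simp
          | succ n ih => rw [pow_succ, mul_smul, hz, ih]
        refine ih (g ^ 5) h1 (hfix x hx 5) (hfix y hy 5) ?_
        rw [← pow_mul, ← pow_succ']
        exact he
  obtain ⟨x₀, hx₀⟩ : (fixedPoints P X).Nonempty := by
    refine hPg.nonempty_fixed_point_of_prime_not_dvd_card X ?_
    rw [hX]; norm_num
  set o := Nat.card (orbit H x₀) with ho
  refine ⟨o, ?_, ?_, ?_, ?_⟩
  · rw [← hX]; exact Finite.card_subtype_le _
  · rw [ho, Nat.card_congr (orbitEquivQuotientStabilizer H x₀)]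
    exact Subgroup.index_dvd_card _
  · have : Fintype (orbit H x₀) := Fintype.ofFinite _
    have : Fintype P := Fintype.ofFinite _
    have hfix : ∀ g : P, g ≠ 1 → Fintype.card (fixedBy (orbit H x₀) g) = 1 := by
      intro g hg
      rw [Fintype.card_eq_one_iff]
      refine ⟨⟨⟨x₀, mem_orbit_self x₀⟩, Subtype.ext (hx₀ g)⟩, ?_⟩
      rintro ⟨⟨y, hy⟩, hfy⟩
      exact Subtype.ext (Subtype.ext
        (huniq' g hg y x₀ (congrArg Subtype.val (show g • (⟨y, hy⟩ : orbit H x₀) = _ from hfy)) (hx₀ g)))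
    have hb := MulAction.sum_card_fixedBy_eq_card_orbits_mul_card_group P (orbit H x₀)
    rw [Fintype.sum_eq_add_sum_compl (1 : P), Finset.sum_congr rfl fun g hg =>
      hfix g (by simpa using hg), Finset.sum_const, smul_eq_mul, mul_one, Finset.card_compl,
      Finset.card_singleton] at hb
    have h1 : Fintype.card (fixedBy (orbit H x₀) (1 : P)) = o := by
      rw [ho, Nat.card_eq_fintype_card]
      exact Fintype.card_congr (Equiv.subtypeUnivEquiv fun y => one_smul _ y)
    rw [h1, ← Nat.card_eq_fintype_card (α := P), hP] at hb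
    have hpos : 1 ≤ 5 ^ k := Nat.one_le_pow _ _ (by norm_num)
    have h5k : 2 ≤ 5 ^ k := le_trans (by norm_num) (Nat.pow_le_pow_right (by norm_num) hk)
    have e1 : (o + (5 ^ k - 1) + 1) % 5 ^ k = 1 := by
      rw [hb, mul_comm, Nat.mul_add_mod, Nat.one_mod_eq_one.2 (by omega)]
    rwa [show o + (5 ^ k - 1) + 1 = o + 5 ^ k by omega, Nat.add_mod_right] at e1
  · intro h1
    refine (Subgroup.card_dvd_of_le ?_).trans (hstab x₀)
    intro g hg
    have hs : Subsingleton (orbit H x₀) := (Nat.card_eq_one_iff_unique.1 h1).1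
    exact congrArg Subtype.val
      (Subsingleton.elim (⟨(⟨g, hg⟩ : H) • x₀, mem_orbit x₀ (⟨g, hg⟩ : H)⟩ : orbit H x₀)
        ⟨x₀, mem_orbit_self x₀⟩)

set_option synthInstance.maxSize 4000 in
/-- The order of a subgroup of index below 50 is excluded. -/
theorem num_check : ∀ m < 50, 15 ≤ m → m ∣ 126000 →
    ((7 ∣ 126000 / m) ∧ (126000 / m / 7) % 7 ≠ 1 ∧
      (21 ∣ 126000 / m → (126000 / m / 21) % 7 ≠ 1)) ∨
    ∃ k < 4, 1 ≤ k ∧ 5 ^ k ∣ 126000 / m ∧ ¬ 126000 / m ∣ 1000 ∧
      ∀ o < 127, o ∣ 126000 / m → o % 5 ^ k = 1 → o = 1 := by decide +kernel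

theorem fact_check : ∀ m < 15, ¬ 126000 ∣ Nat.factorial m := by decide +kernel

/-- Elements of order seven are self-centralising, so their normalisers have order 21. -/
theorem card_normalizer (hG : Nat.card G = 126000)
    (h7 : ∀ g : G, ∀ r : ℕ, r.Prime → r ≠ 7 → orderOf g ≠ 7 * r) (P : Subgroup G)
    (hP : Nat.card P = 7) :
    (Subgroup.centralizer (P : Set G) = P) ∧
      ∃ j, j ∣ 6 ∧ Nat.card (Subgroup.normalizer (P : Set G)) = 7 * j := by
  have : Fact (Nat.Prime 7) := ⟨by norm_num⟩
  have hcyc : IsCyclic P := isCyclic_of_prime_card hP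
  set C := Subgroup.centralizer (P : Set G)
  have hle : P ≤ C := Subgroup.le_centralizer P
  obtain ⟨x, hx⟩ := IsCyclic.exists_generator (α := P)
  have hxo : orderOf (x : G) = 7 := by
    rw [Subgroup.orderOf_coe, orderOf_eq_card_of_forall_mem_zpowers hx, hP]
  have hC : C = P := by
    have hp : IsPGroup 7 C := by
      rw [IsPGroup.iff_card]
      refine Nat.eq_prime_pow_of_unique_prime_dvd Nat.card_pos.ne' ?_ |> fun h => ⟨_, h⟩
      intro r hr hrd
      by_contra hne
      have := Fact.mk hr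
      obtain ⟨y, hy⟩ := exists_prime_orderOf_dvd_card' r hrd
      have hy' : orderOf (y : G) = r := by rw [Subgroup.orderOf_coe, hy]
      have hcomm : Commute (x : G) (y : G) :=
        (Subgroup.mem_centralizer_iff.1 y.2 x x.2)
      refine h7 ((x : G) * y) r hr hne ?_
      rw [hcomm.orderOf_mul_eq_mul_orderOf_of_coprime (by
        rw [hxo, hy']; exact (Nat.coprime_primes (by norm_num) hr).2 (Ne.symm hne)), hxo, hy']
    obtain ⟨e, he⟩ := IsPGroup.iff_card.1 hp
    have hd : 7 ^ e ∣ 126000 := he ▸ hG ▸ Subgroup.card_subgroup_dvd_card C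
    have he1 : e ≤ 1 := by
      by_contra h
      have : 49 ∣ 126000 := (pow_dvd_pow 7 (show 2 ≤ e by omega)).trans hd
      norm_num at this
    refine (Subgroup.eq_of_le_of_card_ge hle ?_).symm
    rw [he, hP]
    exact (Nat.pow_le_pow_right (by norm_num) he1).trans (by norm_num)
  refine ⟨hC, ?_⟩
  have hker : P.normalizerMonoidHom.ker = C.subgroupOf (Subgroup.normalizer (P : Set G)) :=
    Subgroup.normalizerMonoidHom_ker P
  have hd : Nat.card P.normalizerMonoidHom.range ∣ 6 := by
    refine (Subgroup.card_subgroup_dvd_card _).trans ?_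
    rw [IsCyclic.card_mulAut, hP]
    decide
  refine ⟨_, hd, ?_⟩
  have h1 := Subgroup.card_mul_index P.normalizerMonoidHom.ker
  rw [Subgroup.index_ker, hker, hC,
    Nat.card_congr (Subgroup.subgroupOfEquivOfLe Subgroup.le_normalizer).toEquiv, hP] at h1
  exact h1.symm

/-- A subgroup whose order is incompatible with Sylow's theorem for the prime 7. -/
theorem seven_excluded (hG : Nat.card G = 126000)
    (h7 : ∀ g : G, ∀ r : ℕ, r.Prime → r ≠ 7 → orderOf g ≠ 7 * r) (H : Subgroup G)
    (h7d : 7 ∣ Nat.card H) (hn1 : (Nat.card H / 7) % 7 ≠ 1)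
    (hn3 : 21 ∣ Nat.card H → (Nat.card H / 21) % 7 ≠ 1) : False := by
  have : Fact (Nat.Prime 7) := ⟨by norm_num⟩
  obtain ⟨P⟩ : Nonempty (Sylow 7 H) := inferInstance
  have hPc : Nat.card P = 7 := by
    obtain ⟨e, he⟩ := IsPGroup.iff_card.1 P.2
    have h1 : 7 ∣ Nat.card P := P.dvd_card_of_dvd_card h7d
    have h2 : 7 ^ e ∣ 126000 := (he ▸ Subgroup.card_subgroup_dvd_card P.1).trans
      (hG ▸ Subgroup.card_subgroup_dvd_card H)
    rcases (show e = 0 ∨ e = 1 ∨ 2 ≤ e by omega) with rfl | rfl | h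
    · simp [he] at h1
    · simpa using he
    · exfalso
      have : 49 ∣ 126000 := (pow_dvd_pow 7 h).trans h2
      norm_num at this
  set P' := P.1.map H.subtype
  have hP' : Nat.card P' = 7 := by
    rw [Subgroup.card_map_of_injective H.subtype_injective, hPc]
  obtain ⟨-, j, hj, hN⟩ := card_normalizer hG h7 P' hP'
  -- the whole group has `6000` Sylow subgroups
  let Q : Sylow 7 G := Sylow.ofCard P' (by
    rw [hP', hG]
    rw [show (126000 : ℕ) = 7 * 18000 by norm_num,
      Nat.factorization_mul (by norm_num) (by norm_num), Finsupp.add_apply,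
      Nat.Prime.factorization_self (by norm_num), Nat.factorization_eq_zero_of_not_dvd (by norm_num)]
    norm_num)
  have hj3 : j = 3 := by
    have h1 := card_sylow_modEq_one 7 G
    rw [Sylow.card_eq_index_normalizer Q] at h1
    have h2 := Subgroup.card_mul_index (Subgroup.normalizer (P' : Set G))
    rw [hN, hG] at h2
    change Subgroup.index (Subgroup.normalizer (P' : Set G)) ≡ 1 [MOD 7] at h1
    have hj6 : j ≤ 6 := Nat.le_of_dvd (by norm_num) hj
    rw [Nat.ModEq] at h1
    interval_cases j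
    all_goals omega
  subst hj3
  set N := Subgroup.normalizer ((P.1 : Subgroup H) : Set H)
  have hNd : Nat.card N ∣ 21 := by
    rw [show (21 : ℕ) = 7 * 3 from rfl, ← hN, ← Subgroup.card_map_of_injective H.subtype_injective]
    refine Subgroup.card_dvd_of_le ?_
    exact Subgroup.le_normalizer_map H.subtype
  have hN7 : 7 ∣ Nat.card N := hPc ▸ Subgroup.card_dvd_of_le Subgroup.le_normalizer
  have hs := card_sylow_modEq_one 7 H
  rw [Sylow.card_eq_index_normalizer P] at hs
  have hm := Subgroup.card_mul_index N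
  rcases (show Nat.card N = 7 ∨ Nat.card N = 21 by
    have := Nat.le_of_dvd (by norm_num) hNd
    obtain ⟨c, hc⟩ := hN7
    have hc3 : c ∣ 3 := by
      rw [hc] at hNd
      exact Nat.dvd_of_mul_dvd_mul_left (by norm_num) (show 7 * c ∣ 7 * 3 from hNd)
    rcases (Nat.dvd_prime Nat.prime_three).1 hc3 with rfl | rfl <;> omega) with hc | hc <;>
    rw [hc] at hm
  · apply hn1
    rw [← hm, Nat.mul_div_cancel_left _ (by norm_num)]
    exact hs
  · apply hn3 (Dvd.intro _ hm)
    rw [← hm, Nat.mul_div_cancel_left _ (by norm_num)]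
    exact hs

theorem index_ge [IsSimpleGroup G] (hG : Nat.card G = 126000)
    (h7 : ∀ g : G, ∀ r : ℕ, r.Prime → r ≠ 7 → orderOf g ≠ 7 * r) (hX : Nat.card X = 126)
    (huniq : ∀ g : G, g ^ 5 = 1 → g ≠ 1 → ∀ x y : X, g • x = x → g • y = y → x = y)
    (hstab : ∀ x : X, Nat.card (stabilizer G x) ∣ 1000)
    (H : Subgroup G) (hH : H ≠ ⊤) : 50 ≤ H.index := by
  by_contra hlt
  push Not at hlt
  have hmul := Subgroup.card_mul_index H
  rw [hG] at hmul
  have hdvd : H.index ∣ 126000 := Dvd.intro_left _ hmul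
  rcases Nat.lt_or_ge H.index 15 with h15 | h15
  · exact fact_check _ h15 (hG ▸ card_dvd_factorial H hH)
  have hh : Nat.card H = 126000 / H.index := by
    rw [← hmul, Nat.mul_div_cancel _ (by omega)]
  rcases num_check _ hlt h15 hdvd with ⟨h7d, hn1, hn3⟩ | ⟨k, -, hk, h5, h1000, ho⟩
  · rw [← hh] at h7d hn1 hn3
    exact seven_excluded hG h7 H h7d hn1 hn3
  · rw [← hh] at h5 h1000
    obtain ⟨o, ho126, hod, hom, ho1⟩ := exists_orbit_size hX huniq hstab H hk h5
    exact h1000 (ho1 (ho o (by omega) (hh ▸ hod) hom))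

end CfsgLib.UThreeFive
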