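import Cfsg.Agent.Lib.Classical.UThreeFive.Data

set_option autoImplicit false
set_option maxRecDepth 100000

/-!
Kernel checks of the certificate data.
-/

namespace CfsgLib.UThreeFive

/-- The vector with the given code. -/
def vecOf (c : ℕ) : Fin 3 → K25 := ![ofCode (c / 625), ofCode (c / 25 % 25), ofCode (c % 25)]

/-- Point `i`. -/
def pt (i : ℕ) : Fin 3 → K25 := vecOf (look ptTable i)

/-- Matrix times vector, written out. -/
def mv3 (A : Matrix (Fin 3) (Fin 3) K25) (v : Fin 3 → K25) : Fin 3 → K25 :=
  ![A 0 0 * v 0 + A 0 1 * v 1 + A 0 2 * v 2, A 1 0 * v 0 + A 1 1 * v 1 + A 1 2 * v 2,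
    A 2 0 * v 0 + A 2 1 * v 1 + A 2 2 * v 2]

/-- The permutation of the points. -/
def pim (b : Bool) (i : ℕ) : ℕ := look (imgTable b) i / 25

/-- The scalar. -/
def lam (b : Bool) (i : ℕ) : K25 := ofCode (look (imgTable b) i % 25)

/-- The members of a mask. -/
def members (m : ℕ) : List ℕ := (List.range 651).filter fun i => m.testBit i

/-- The image of a mask. -/
def imgMask (b : Bool) (m : ℕ) : ℕ :=
  (members m).foldl (fun acc i => acc ||| 2 ^ pim b i) 0

theorem genM_spec (b : Bool) : (genM b).det = 1 ∧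
    (genM b).transpose * (genM b).map (fun x => x * x * x * x * x) = 1 := by
  revert b
  simp only [Matrix.det_fin_three]
  decide +kernel

theorem img_spec : ∀ b, ∀ i < 651, pim b i < 651 ∧ lam b i ≠ 0 ∧
    mv3 (genM b) (pt i) 0 = lam b i * pt (pim b i) 0 ∧
    mv3 (genM b) (pt i) 1 = lam b i * pt (pim b i) 1 ∧
    mv3 (genM b) (pt i) 2 = lam b i * pt (pim b i) 2 := by decide +kernel

/-- Leading entry one. -/
def Lead (v : Fin 3 → K25) : Prop :=
  v 0 = 1 ∨ (v 0 = 0 ∧ v 1 = 1) ∨ (v 0 = 0 ∧ v 1 = 0 ∧ v 2 = 1)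

theorem lead_spec : ∀ i < 651, Lead (pt i) := by unfold Lead; decide +kernel

theorem code_spec : ∀ i < 651, look ptTable i < 25 ^ 3 ∧
    (i + 1 < 651 → look ptTable i < look ptTable (i + 1)) := by decide +kernel

theorem ofCode_spec : ∀ x < 25, ∀ y < 25, ofCode x = ofCode y → x = y := by decide +kernel

theorem iso_spec : ∀ j < 126, look isoTable j < 651 ∧
    pt (look isoTable j) 0 * (pt (look isoTable j) 0 * pt (look isoTable j) 0 * pt (look isoTable j) 0 *
        pt (look isoTable j) 0 * pt (look isoTable j) 0) +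
      pt (look isoTable j) 1 * (pt (look isoTable j) 1 * pt (look isoTable j) 1 * pt (look isoTable j) 1 *
        pt (look isoTable j) 1 * pt (look isoTable j) 1) +
      pt (look isoTable j) 2 * (pt (look isoTable j) 2 * pt (look isoTable j) 2 * pt (look isoTable j) 2 *
        pt (look isoTable j) 2 * pt (look isoTable j) 2) = 0 := by decide +kernel

theorem isoImg_spec : ∀ b, ∀ j < 126, look (isoImg b) j < 126 ∧
    look isoTable (look (isoImg b) j) = pim b (look isoTable j) := by decide +kernel

theorem isoPar_spec : ∀ j < 126, j ≠ 0 → look isoPar j / 2 < j ∧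
    look (isoImg (look isoPar j % 2 == 1)) (look isoPar j / 2) = j := by decide +kernel

theorem isoTable_inj : ∀ j < 126, ∀ j' < 126, look isoTable j = look isoTable j' → j = j' := by
  decide +kernel

theorem maskImg_spec : ∀ b, ∀ s < 50, look (maskImg b) s < 50 ∧
    look maskTable (look (maskImg b) s) = imgMask b (look maskTable s) := by decide +kernel

theorem maskPar_spec : ∀ s < 50, s ≠ 0 → look maskPar s / 2 < s ∧
    look (maskImg (look maskPar s % 2 == 1)) (look maskPar s / 2) = s := by decide +kernel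

theorem mask_inj : ∀ s < 50, look maskTable s < 2 ^ 651 ∧
    ∀ s' < 50, look maskTable s = look maskTable s' → s = s' := by decide +kernel

end CfsgLib.UThreeFive
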