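import Mathlib

set_option autoImplicit false

/-!
A unitary matrix of degree three, unipotent up to a scalar and fixing two isotropic lines, is scalar.
-/

namespace CfsgLib.UThreeFive

open Matrix

variable {F : Type*} [Field F] (σ : F ≃+* F)

/-- The Hermitian product. -/
def herm (u v : Fin 3 → F) : F := u 0 * σ (v 0) + u 1 * σ (v 1) + u 2 * σ (v 2)

/-- The cross product. -/
def cross (u v : Fin 3 → F) : Fin 3 → F :=
  ![u 1 * v 2 - u 2 * v 1, u 2 * v 0 - u 0 * v 2, u 0 * v 1 - u 1 * v 0]

theorem herm_eq_dot (u v : Fin 3 → F) : herm σ u v = u ⬝ᵥ fun i => σ (v i) := by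
  simp [herm, dotProduct, Fin.sum_univ_three]

theorem herm_smul_left (c : F) (u v : Fin 3 → F) : herm σ (c • u) v = c * herm σ u v := by
  simp [herm]; ring

theorem herm_smul_right (c : F) (u v : Fin 3 → F) : herm σ u (c • v) = σ c * herm σ u v := by
  simp [herm]; ring

theorem herm_self_symm (hσ : ∀ c, σ (σ c) = c) (u v : Fin 3 → F) :
    σ (herm σ u v) = herm σ v u := by
  simp [herm, hσ]; ring

theorem herm_cross_self (u v : Fin 3 → F) :
    cross u v 0 * σ (cross u v 0) + cross u v 1 * σ (cross u v 1) + cross u v 2 * σ (cross u v 2) =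
      herm σ u u * herm σ v v - herm σ u v * herm σ v u := by
  simp [herm, cross]; ring

theorem det_rows (u v x : Fin 3 → F) :
    (!![u 0, u 1, u 2; v 0, v 1, v 2; x 0, x 1, x 2]).det =
      x 0 * cross u v 0 + x 1 * cross u v 1 + x 2 * cross u v 2 := by
  simp [Matrix.det_fin_three, cross]; ring

theorem smul_of_cross_eq_zero {u v : Fin 3 → F} (hu : u ≠ 0) (h : cross u v = 0) :
    ∃ t : F, v = t • u := by
  obtain ⟨i, hi⟩ := Function.ne_iff.1 hu
  have h0 := congrFun h 0
  have h1 := congrFun h 1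
  have h2 := congrFun h 2
  simp [cross, sub_eq_zero] at h0 h1 h2
  refine ⟨v i / u i, funext fun j => ?_⟩
  simp only [Pi.smul_apply, smul_eq_mul]
  fin_cases i <;> fin_cases j <;> simp at hi ⊢ <;> field_simp
  all_goals first
    | linear_combination h0 | linear_combination -h0
    | linear_combination h1 | linear_combination -h1
    | linear_combination h2 | linear_combination -h2

/-- A plane spanned by two isotropic vectors is not totally isotropic. -/
theorem herm_ne_zero (hσ : ∀ c, σ (σ c) = c) {u v : Fin 3 → F} (hu : u ≠ 0)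
    (hd : ∀ t : F, v ≠ t • u) (huu : herm σ u u = 0) (hvv : herm σ v v = 0) :
    herm σ u v ≠ 0 := by
  intro huv
  have hvu : herm σ v u = 0 := by rw [← herm_self_symm σ hσ, huv, map_zero]
  have key : ∀ x : Fin 3 → F, x 0 * cross u v 0 + x 1 * cross u v 1 + x 2 * cross u v 2 = 0 := by
    intro x
    set B := !![u 0, u 1, u 2; v 0, v 1, v 2; x 0, x 1, x 2] with hB
    have h : (B * (B.map σ)ᵀ).det = 0 := by
      rw [Matrix.det_fin_three]
      simp only [herm] at huu hvv huv hvu
      simp [hB, Matrix.mul_apply, Fin.sum_univ_three, huu, hvv, huv, hvu]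
    rw [Matrix.det_mul, Matrix.det_transpose,
      show (B.map σ).det = σ B.det from (RingHom.map_det σ.toRingHom B).symm, hB, det_rows] at h
    rcases mul_eq_zero.1 h with h | h
    · exact h
    · exact (map_eq_zero σ).1 h
  obtain ⟨t, ht⟩ := smul_of_cross_eq_zero hu (v := v) (by
    funext i
    have h0 := key ![1, 0, 0]
    have h1 := key ![0, 1, 0]
    have h2 := key ![0, 0, 1]
    simp at h0 h1 h2
    fin_cases i <;> assumption)
  exact hd t ht

/-- Uniqueness of the fixed isotropic line. -/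
theorem eq_scalar (hσ : ∀ c, σ (σ c) = c) (M : Matrix (Fin 3) (Fin 3) F)
    (hM : ∀ x y, herm σ (M *ᵥ x) (M *ᵥ y) = herm σ x y) {p : ℕ}
    (hinj : ∀ a b : F, a ^ p = b ^ p → a = b) {c : F} (hpow : M ^ p = c • 1)
    {u v : Fin 3 → F} (hu : u ≠ 0) (hv : v ≠ 0) (hd : ∀ t : F, v ≠ t • u)
    (huu : herm σ u u = 0) (hvv : herm σ v v = 0)
    {l m : F} (hMu : M *ᵥ u = l • u) (hMv : M *ᵥ v = m • v) : ∃ d : F, M = d • 1 := by
  have eig : ∀ (w : Fin 3 → F) (a : F), w ≠ 0 → M *ᵥ w = a • w → a ^ p = c := by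
    intro w a hw hwa
    have h : ∀ n : ℕ, (M ^ n) *ᵥ w = a ^ n • w := fun n => by
      induction n with
      | zero => simp
      | succ n ih => rw [pow_succ, ← Matrix.mulVec_mulVec, hwa, Matrix.mulVec_smul, ih, smul_smul, pow_succ']
    have h1 := h p
    rw [hpow, Matrix.smul_mulVec, Matrix.one_mulVec] at h1
    exact (smul_left_injective F hw h1.symm)
  have hlm : l = m := hinj _ _ ((eig u l hu hMu).trans (eig v m hv hMv).symm)
  subst hlm
  have ha := herm_ne_zero σ hσ hu hd huu hvv
  have hl : l ≠ 0 := by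
    rintro rfl
    have := hM u v
    rw [hMu, zero_smul] at this
    exact ha (by rw [← this]; simp [herm])
  set z : Fin 3 → F := fun i => σ (cross u v i) with hz
  have hzz : herm σ z z ≠ 0 := by
    rw [show herm σ z z = σ (herm σ u u * herm σ v v - herm σ u v * herm σ v u) from ?_, huu, zero_mul,
      zero_sub, map_neg, neg_ne_zero, map_ne_zero, ← herm_self_symm σ hσ u v]
    · exact mul_ne_zero ha ((map_ne_zero σ).2 ha)
    · rw [← herm_cross_self, map_add, map_add, map_mul, map_mul, map_mul]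
      rfl
  have hzu : herm σ z u = 0 := by
    rw [hz]; simp [herm, cross]; ring
  have hzv : herm σ z v = 0 := by
    rw [hz]; simp [herm, cross]; ring
  set B := !![u 0, u 1, u 2; v 0, v 1, v 2; z 0, z 1, z 2] with hB
  have hBdet : B.det ≠ 0 := by
    rw [hB, det_rows]
    convert hzz using 1
    simp only [herm, hz, hσ]
  -- the third eigenvector
  have hMz : herm σ (M *ᵥ z) u = 0 ∧ herm σ (M *ᵥ z) v = 0 := by
    have h1 := hM z u
    have h2 := hM z v
    rw [hMu, herm_smul_right, hzu] at h1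
    rw [hMv, herm_smul_right, hzv] at h2
    exact ⟨(mul_eq_zero.1 h1).resolve_left ((map_ne_zero σ).2 hl),
      (mul_eq_zero.1 h2).resolve_left ((map_ne_zero σ).2 hl)⟩
  obtain ⟨k, hk⟩ : ∃ k : F, M *ᵥ z = k • z := by
    set k := herm σ (M *ᵥ z) z / herm σ z z
    refine ⟨k, sub_eq_zero.1 (Matrix.eq_zero_of_mulVec_eq_zero
      (show (B.map σ).det ≠ 0 by
        rw [show (B.map σ).det = σ B.det from (RingHom.map_det σ.toRingHom B).symm]
        exact (map_ne_zero σ).2 hBdet) ?_)⟩
    set w := M *ᵥ z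
    have e : ∀ y, herm σ (w - k • z) y = herm σ w y - k * herm σ z y := fun y => by
      simp [herm]; ring
    have e1 : herm σ (w - k • z) u = 0 := by rw [e, hMz.1, hzu]; ring
    have e2 : herm σ (w - k • z) v = 0 := by rw [e, hMz.2, hzv]; ring
    have e3 : herm σ (w - k • z) z = 0 := by rw [e, div_mul_cancel₀ _ hzz, sub_self]
    simp only [herm] at e1 e2 e3
    generalize w - k • z = q at e1 e2 e3 ⊢
    funext i
    fin_cases i <;> simp [hB, Matrix.mulVec, dotProduct, Fin.sum_univ_three]
    · linear_combination e1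
    · linear_combination e2
    · linear_combination e3
  have hz0 : z ≠ 0 := fun h => hzz (by simp [herm, h])
  have hkl : k = l := hinj _ _ ((eig z k hz0 hk).trans (eig u l hu hMu).symm)
  subst hkl
  refine ⟨k, ?_⟩
  have h : (M - k • 1) * Bᵀ = 0 := by
    have r : ∀ w : Fin 3 → F, M *ᵥ w = k • w → (M - k • (1 : Matrix (Fin 3) (Fin 3) F)) *ᵥ w = 0 :=
      fun w hw => by rw [Matrix.sub_mulVec, hw, Matrix.smul_mulVec, Matrix.one_mulVec, sub_self]
    ext i j
    have ru := congrFun (r u hMu) i
    have rv := congrFun (r v hMv) i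
    have rz := congrFun (r z hk) i
    simp only [Matrix.mulVec, dotProduct, Fin.sum_univ_three, Pi.zero_apply] at ru rv rz
    rw [Matrix.mul_apply, Fin.sum_univ_three]
    fin_cases j <;> simp [hB] <;> assumption
  refine sub_eq_zero.1 ?_
  have hu' : IsUnit Bᵀ.det := by rw [Matrix.det_transpose]; exact isUnit_iff_ne_zero.2 hBdet
  calc M - k • 1 = (M - k • 1) * Bᵀ * Bᵀ⁻¹ := (Matrix.mul_nonsing_inv_cancel_right _ _ hu').symm
    _ = 0 := by rw [h, Matrix.zero_mul]

end CfsgLib.UThreeFive
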