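import Cfsg.Agent.Lib.Classical.UThreeFive.Orbit
import Cfsg.Agent.Lib.Classical.UThreeFive.Line
import Cfsg.Agent.Lib.Classical.UThreeFive.Bound
import Cfsg.Agent.Lib.Classical.UnitarySimple
import Cfsg.Agent.Lib.Classical.UnitaryOrder
import Cfsg.Agent.Lib.FormRep.Unitary
import Cfsg.Agent.Lib.Spectrum.UnitaryThreeOdd
import Cfsg.Agent.Lib.AutPSL.Out

set_option autoImplicit false
set_option linter.style.haveILetI false

/-!
The least index of a proper subgroup of `PSU(3,5)` is 50.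
-/

namespace CfsgLib.UThreeFive

open MulAction Matrix
open scoped LinearAlgebra.Projectivization Pointwise

variable {F : Type*} [Field F] [Fintype F]

/-- Point `i` transported to `F`. -/
def vecF (e : K25 ≃+* F) (i : ℕ) : Fin 3 → F := fun k => e (pt i k)

theorem lead_vecF (e : K25 ≃+* F) {i : ℕ} (hi : i < 651) :
    vecF e i 0 = 1 ∨ (vecF e i 0 = 0 ∧ vecF e i 1 = 1) ∨
      (vecF e i 0 = 0 ∧ vecF e i 1 = 0 ∧ vecF e i 2 = 1) := by
  rcases lead_spec i hi with h | ⟨h, h'⟩ | ⟨h, h', h''⟩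
  · exact Or.inl (by simp [vecF, h])
  · exact Or.inr (Or.inl (by simp [vecF, h, h']))
  · exact Or.inr (Or.inr (by simp [vecF, h, h', h'']))

theorem vecF_ne (e : K25 ≃+* F) {i : ℕ} (hi : i < 651) : vecF e i ≠ 0 := fun h => by
  rcases lead_vecF e hi with h' | ⟨-, h'⟩ | ⟨-, -, h'⟩ <;> simp [h] at h'

theorem code_mono {i j : ℕ} (hij : i < j) (hj : j < 651) : look ptTable i < look ptTable j := by
  induction j, hij using Nat.le_induction with
  | base => exact (code_spec i (by omega)).2 hj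
  | succ j hij ih => exact (ih (by omega)).trans ((code_spec j (by omega)).2 hj)

open scoped Classical in
/-- The points. -/
noncomputable def Pt (e : K25 ≃+* F) (i : ℕ) : ℙ F (Fin 3 → F) :=
  haveI := Classical.propDecidable (vecF e i ≠ 0)
  if h : vecF e i ≠ 0 then Projectivization.mk F _ h
  else Projectivization.mk F (Pi.single 0 1) (by simp)

theorem Pt_eq (e : K25 ≃+* F) {i : ℕ} (hi : i < 651) :
    Pt e i = Projectivization.mk F (vecF e i) (vecF_ne e hi) := dif_pos _

theorem Pt_inj (e : K25 ≃+* F) {i j : ℕ} (hi : i < 651) (hj : j < 651) (h : Pt e i = Pt e j) :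
    i = j := by
  rw [Pt_eq e hi, Pt_eq e hj, Projectivization.mk_eq_mk_iff'] at h
  obtain ⟨t, ht⟩ := h
  have h0 := congrFun ht 0
  have h1 := congrFun ht 1
  have h2 := congrFun ht 2
  simp only [Pi.smul_apply, smul_eq_mul] at h0 h1 h2
  have ht1 : t = 1 := by
    rcases lead_vecF e hi with a | ⟨a, a'⟩ | ⟨a, a', a''⟩ <;>
      rcases lead_vecF e hj with b | ⟨b, b'⟩ | ⟨b, b', b''⟩ <;> simp_all
  subst ht1
  have hpt : pt j = pt i := funext fun k => e.injective (by
    simpa [vecF] using congrFun ht k)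
  have hc := (code_spec i hi).1
  have hd := (code_spec j hj).1
  have g0 : look ptTable j / 625 = look ptTable i / 625 :=
    ofCode_spec _ (by omega) _ (by omega) (by simpa [pt, vecOf] using congrFun hpt 0)
  have g1 : look ptTable j / 25 % 25 = look ptTable i / 25 % 25 :=
    ofCode_spec _ (by omega) _ (by omega) (by simpa [pt, vecOf] using congrFun hpt 1)
  have g2 : look ptTable j % 25 = look ptTable i % 25 :=
    ofCode_spec _ (by omega) _ (by omega) (by simpa [pt, vecOf] using congrFun hpt 2)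
  rcases lt_trichotomy i j with hl | hl | hl
  · have := code_mono hl hj; omega
  · exact hl
  · have := code_mono hl hi; omega

theorem exists_sigma (hF : Fintype.card F = 25) :
    ∃ σ : F ≃+* F, (∀ c, σ c = c ^ 5) ∧ ∀ c, σ (σ c) = c := by
  have := Fact.mk (show Nat.Prime 5 by norm_num)
  have : CharP F 5 := by
    obtain ⟨p, _⟩ := CharP.exists F
    obtain ⟨k, hp, hk⟩ := FiniteField.card F p
    rw [hF] at hk
    have h5 : p ∣ 5 ^ 2 := by
      rw [show (5 : ℕ) ^ 2 = 25 by norm_num, hk]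
      exact dvd_pow_self p k.ne_zero
    obtain rfl := (Nat.prime_dvd_prime_iff_eq hp (by norm_num)).1 (hp.dvd_of_dvd_pow h5)
    infer_instance
  obtain ⟨τ, hτ⟩ := CfsgLib.FormRep.exists_powEquiv (F := F) F 5 (by norm_num) 1
  have hq : ∀ c, τ c = c ^ 5 := fun c => by rw [hτ, pow_one]
  exact ⟨τ, hq, fun c => by rw [hq, hq, ← pow_mul, show 5 * 5 = Fintype.card F from hF.symm,
    FiniteField.pow_card]⟩

theorem exists_equiv (hF : Fintype.card F = 25) : Nonempty (K25 ≃+* F) := by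
  haveI := Fact.mk (show Nat.Prime 5 by norm_num)
  haveI : Fintype K25 := Fintype.ofEquiv _ (QuadraticAlgebra.equivProd 2 0).symm
  have hc : Nat.card K25 = 25 := by
    rw [Nat.card_congr (QuadraticAlgebra.equivProd (R := ZMod 5) 2 0)]; simp
  have h : Fintype.card K25 = Fintype.card F := by rw [hF, ← Nat.card_eq_fintype_card, hc]
  exact ⟨FiniteField.ringEquivOfCardEq h⟩

theorem sl_smul_mk (g : Matrix.SpecialLinearGroup (Fin 3) F) {v : Fin 3 → F} (hv : v ≠ 0)
    (hgv : (g : Matrix (Fin 3) (Fin 3) F) *ᵥ v ≠ 0) :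
    g • Projectivization.mk F v hv = Projectivization.mk F _ hgv := rfl

theorem mulVec_ne (g : Matrix.SpecialLinearGroup (Fin 3) F) {v : Fin 3 → F} (hv : v ≠ 0) :
    (g : Matrix (Fin 3) (Fin 3) F) *ᵥ v ≠ 0 := fun h => by
  have := congrArg (((g⁻¹ : Matrix.SpecialLinearGroup (Fin 3) F) : Matrix (Fin 3) (Fin 3) F) *ᵥ ·) h
  simp only [Matrix.mulVec_mulVec, ← Matrix.SpecialLinearGroup.coe_mul, inv_mul_cancel,
    Matrix.SpecialLinearGroup.coe_one, Matrix.one_mulVec, Matrix.mulVec_zero] at this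
  exact hv this

theorem center_le_ker (hF : Fintype.card F = 25) :
    Subgroup.center (Cfsg.SU 3 F 5) ≤
      (MulAction.toPermHom (Cfsg.SU 3 F 5) (ℙ F (Fin 3 → F))).ker := by
  intro g hg
  obtain ⟨σ, hσq, hσ⟩ := exists_sigma hF
  obtain ⟨c, hc⟩ := (CfsgLib.FormRep.Unitary.center_iff le_rfl (by rw [hF]; norm_num) σ hσq hσ g).1 hg
  refine Equiv.ext fun x => ?_
  induction x using Projectivization.ind with
  | h v hv =>
    show g.1 • Projectivization.mk F v hv = _
    rw [sl_smul_mk g.1 hv (mulVec_ne g.1 hv)]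
    refine (Projectivization.mk_eq_mk_iff' F _ _ _ hv).2 ⟨c, ?_⟩
    rw [hc, Matrix.smul_mulVec, Matrix.one_mulVec]

/-- The action on the plane. -/
noncomputable def act (hF : Fintype.card F = 25) :
    Cfsg.PSU 3 F 5 →* Equiv.Perm (ℙ F (Fin 3 → F)) :=
  QuotientGroup.lift _ (MulAction.toPermHom (Cfsg.SU 3 F 5) (ℙ F (Fin 3 → F))) (center_le_ker hF)

theorem card_PSU (hF : Fintype.card F = 25) : Nat.card (Cfsg.PSU 3 F 5) = 126000 := by
  obtain ⟨C⟩ := CfsgLib.Classical.Herm.exists_conj_of_card (q := 5) (by rw [hF]; norm_num : Fintype.card F = 5 ^ 2)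
  have h1 := CfsgLib.Classical.Herm.card_SU C (n := 3) (by norm_num)
  have h2 := CfsgLib.Classical.Herm.card_GU C (n := 3)
  have h3 := CfsgLib.Classical.Herm.card_center C (n := 3) (by norm_num)
  have hp : (∏ i ∈ Finset.range 3, if Even i then (5 : ℕ) ^ (i + 1) + 1 else 5 ^ (i + 1) - 1) = 18144 := by
    decide +kernel
  rw [h2, hp] at h1
  rw [show Nat.gcd 3 (5 + 1) = 3 from rfl] at h3
  have h4 := Subgroup.card_eq_card_quotient_mul_card_subgroup (Subgroup.center (Cfsg.SU 3 F 5))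
  rw [h3] at h4
  norm_num [Nat.gcd] at h4 h1
  nlinarith [h4, h1]

theorem isSimple (hF : Fintype.card F = 25) : IsSimpleGroup (Cfsg.PSU 3 F 5) := by
  obtain ⟨C⟩ := CfsgLib.Classical.Herm.exists_conj_of_card (q := 5) (by rw [hF]; norm_num : Fintype.card F = 5 ^ 2)
  have := Fact.mk (show Nat.Prime 5 by norm_num)
  have := CfsgLib.AutPSL.charP_of_card (F := F) (p := 5) (f := 2) (by rw [hF]; norm_num)
  exact CfsgLib.Classical.Herm.isSimpleGroup C 5 le_rfl (by norm_num)

theorem not_orderOf_seven (hF : Fintype.card F = 25) (g : Cfsg.PSU 3 F 5) (r : ℕ) (hr : r.Prime) :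
    orderOf g ≠ 7 * r := by
  intro h
  have := Fact.mk (show Nat.Prime 5 by norm_num)
  have := CfsgLib.AutPSL.charP_of_card (F := F) (p := 5) (f := 2) (by rw [hF]; norm_num)
  have hm : orderOf g ∈ Set.range (orderOf : Cfsg.PSU 3 F 5 → ℕ) := ⟨g, rfl⟩
  rw [CfsgLib.Spectrum.UnitaryThreeOdd.range_orderOf 5 (by norm_num) 5 (by rw [hF]; norm_num)] at hm
  obtain ⟨T, hT, hd⟩ := hm
  rw [h] at hd
  simp only [CfsgLib.Spectrum.UnitaryThreeOdd.targets, Set.mem_insert_iff, Set.mem_singleton_iff] at hT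
  norm_num at hT
  have h7 : 7 ∣ T := (dvd_mul_right 7 r).trans hd
  rcases hT with rfl | rfl | rfl | rfl
  all_goals first
    | (norm_num at h7; done)
    | exact hr.one_lt.ne' (Nat.dvd_one.1 (Nat.dvd_of_mul_dvd_mul_left (by norm_num) (show 7 * r ∣ 7 * 1 from hd)))

theorem exists_gen (hF : Fintype.card F = 25) (e : K25 ≃+* F) (b : Bool) :
    ∃ g : Cfsg.SU 3 F 5, (g.1 : Matrix (Fin 3) (Fin 3) F) = (genM b).map e := by
  obtain ⟨σ, hσq, hσ⟩ := exists_sigma hF
  refine ⟨⟨⟨(genM b).map e, ?_⟩, ?_⟩, rfl⟩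
  · rw [← RingEquiv.coe_toRingHom, ← RingHom.mapMatrix_apply, ← RingHom.map_det, (genM_spec b).1, map_one]
  refine (CfsgLib.FormRep.Unitary.mem_SU_iff σ hσq hσ).2 ?_
  show (((genM b).map e).map σ)ᵀ * (genM b).map e = 1
  have h1 : ((genM b).map e).map σ = ((genM b).map fun x => x * x * x * x * x).map e := by
    ext i j
    simp [hσq, pow_succ]
  have h2 : ((genM b).map fun x => x * x * x * x * x)ᵀ * genM b = 1 := by
    have := congrArg Matrix.transpose (genM_spec b).2
    simpa [Matrix.transpose_mul] using this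
  rw [h1, ← Matrix.transpose_map]
  show Matrix.map _ e.toRingHom * Matrix.map _ e.toRingHom = 1
  rw [← Matrix.map_mul, h2]
  exact Matrix.map_one _ (map_zero e) (map_one e)

theorem gen_smul_Pt (e : K25 ≃+* F) (b : Bool) {g : Matrix.SpecialLinearGroup (Fin 3) F}
    (hg : (g : Matrix (Fin 3) (Fin 3) F) = (genM b).map e) {i : ℕ} (hi : i < 651) :
    g • Pt e i = Pt e (pim b i) := by
  obtain ⟨hp, hl, h0, h1, h2⟩ := img_spec b i hi
  rw [Pt_eq e hi, Pt_eq e hp, sl_smul_mk g _ (mulVec_ne g (vecF_ne e hi)),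
    Projectivization.mk_eq_mk_iff']
  refine ⟨e (lam b i), ?_⟩
  funext k
  rw [hg, Pi.smul_apply, smul_eq_mul]
  simp only [mv3] at h0 h1 h2
  fin_cases k
  · simpa [Matrix.mulVec, dotProduct, Fin.sum_univ_three, vecF] using (congrArg e h0).symm
  · simpa [Matrix.mulVec, dotProduct, Fin.sum_univ_three, vecF] using (congrArg e h1).symm
  · simpa [Matrix.mulVec, dotProduct, Fin.sum_univ_three, vecF] using (congrArg e h2).symm

theorem herm_hermForm {σ : F ≃+* F} (hσq : ∀ c, σ c = c ^ 5) (u v : Fin 3 → F) :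
    Cfsg.hermForm 3 F 5 u v = herm σ u v := by
  simp [Cfsg.hermForm, herm, Fin.sum_univ_three, hσq]

/-- The main result. -/
theorem min_index (hF : Fintype.card F = 25) :
    (∀ H : Subgroup (Cfsg.PSU 3 F 5), H ≠ ⊤ → 50 ≤ H.index) ∧
      ∃ H : Subgroup (Cfsg.PSU 3 F 5), H.index = 50 := by
  classical
  obtain ⟨e⟩ := exists_equiv hF
  obtain ⟨σ, hσq, hσ⟩ := exists_sigma hF
  have := isSimple hF
  have hG := card_PSU hF
  have h7 : ∀ g : Cfsg.PSU 3 F 5, ∀ r : ℕ, r.Prime → r ≠ 7 → orderOf g ≠ 7 * r :=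
    fun g r hr _ => not_orderOf_seven hF g r hr
  letI : MulAction (Cfsg.PSU 3 F 5) (ℙ F (Fin 3 → F)) := MulAction.compHom _ (act hF)
  choose gs hgs using exists_gen hF e
  let gen : Bool → Cfsg.PSU 3 F 5 := fun b => QuotientGroup.mk (gs b)
  have hgen : ∀ b, ∀ i < 651, gen b • Pt e i = Pt e (pim b i) := fun b i hi =>
    gen_smul_Pt e b (hgs b) hi
  set K := Subgroup.closure (Set.range gen) with hK
  -- the isotropic points
  obtain ⟨ho1, hc1⟩ := orbit_eq_image gen (n := 126) (by norm_num) (fun j => Pt e (look isoTable j))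
    (fun j hj j' hj' h => isoTable_inj j hj j' hj' (Pt_inj e (iso_spec j hj).1 (iso_spec j' hj').1 h))
    (fun b j => look (isoImg b) j)
    (fun b j hj => ⟨(isoImg_spec b j hj).1,
      by rw [hgen b _ (iso_spec j hj).1, (isoImg_spec b j hj).2]⟩)
    (fun j => (look isoPar j % 2 == 1, look isoPar j / 2))
    (fun j hj h0 => isoPar_spec j hj h0)
  -- the sets of points
  let S : ℕ → Set (ℙ F (Fin 3 → F)) := fun s =>
    Pt e '' {i | i < 651 ∧ (look maskTable s).testBit i = true}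
  have hSinj : ∀ s < 50, ∀ s' < 50, S s = S s' → s = s' := by
    intro s hs s' hs' h
    refine (mask_inj s hs).2 s' hs' (Nat.eq_of_testBit_eq fun i => ?_)
    rcases Nat.lt_or_ge i 651 with hi | hi
    · have key : ∀ t t', S t = S t' → (look maskTable t).testBit i = true →
          (look maskTable t').testBit i = true := fun t t' htt ht => by
        have : Pt e i ∈ S t' := htt ▸ ⟨i, ⟨hi, ht⟩, rfl⟩
        obtain ⟨j, ⟨hj, hjb⟩, hje⟩ := this
        exact Pt_inj e hj hi hje ▸ hjb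
      exact Bool.eq_iff_iff.2 ⟨key s s' h, key s' s h.symm⟩
    · have hl : ∀ t < 50, (look maskTable t).testBit i = false := fun t ht =>
        Nat.testBit_lt_two_pow ((mask_inj t ht).1.trans_le (Nat.pow_le_pow_right (by norm_num) hi))
      rw [hl s hs, hl s' hs']
  have hSimg : ∀ b, ∀ s < 50, gen b • S s = S (look (maskImg b) s) := by
    intro b s hs
    simp only [S, (maskImg_spec b s hs).2, ← Set.image_smul, Set.image_image]
    ext x
    constructor
    · rintro ⟨i, ⟨hi, hib⟩, rfl⟩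
      exact ⟨pim b i, ⟨(img_spec b i hi).1, (testBit_imgMask b _ _).2 ⟨i, hi, hib, rfl⟩⟩,
        (hgen b i hi).symm⟩
    · rintro ⟨j, ⟨-, hjb⟩, rfl⟩
      obtain ⟨i, hi, hib, rfl⟩ := (testBit_imgMask b _ _).1 hjb
      exact ⟨i, ⟨hi, hib⟩, hgen b i hi⟩
  obtain ⟨-, hc2⟩ := orbit_eq_image gen (n := 50) (by norm_num) S hSinj
    (fun b s => look (maskImg b) s)
    (fun b s hs => ⟨(maskImg_spec b s hs).1, hSimg b s hs⟩)
    (fun s => (look maskPar s % 2 == 1, look maskPar s / 2))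
    (fun s hs h0 => maskPar_spec s hs h0)
  -- the two generators generate
  have hKtop : K = ⊤ := by
    by_contra hne
    have hd1 : 126 ∣ Nat.card K := by
      rw [← hc1, Nat.card_congr (orbitEquivQuotientStabilizer K _)]
      exact Subgroup.index_dvd_card _
    have hd2 : 50 ∣ Nat.card K := by
      rw [← hc2, Nat.card_congr (orbitEquivQuotientStabilizer K _)]
      exact Subgroup.index_dvd_card _
    have hd : 3150 ∣ Nat.card K := Nat.lcm_dvd hd1 hd2
    have hmul := Subgroup.card_mul_index K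
    rw [hG] at hmul
    obtain ⟨c, hc⟩ := hd
    have hm : K.index ∣ 40 := ⟨c, by
      rw [hc] at hmul
      nlinarith⟩
    have h15 : ¬ K.index < 15 := fun h => fact_check _ h (hG ▸ card_dvd_factorial K hne)
    have hm40 : K.index ∈ Nat.divisors 40 := Nat.mem_divisors.2 ⟨hm, by norm_num⟩
    rw [show Nat.divisors 40 = {1, 2, 4, 5, 8, 10, 20, 40} by decide] at hm40
    simp only [Finset.mem_insert, Finset.mem_singleton] at hm40
    rcases hm40 with h | h | h | h | h | h | h | h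
    all_goals try omega
    · have hh : Nat.card K = 6300 := by rw [h] at hmul; omega
      exact seven_excluded hG h7 K (by rw [hh]; norm_num) (by rw [hh]; norm_num)
        (fun _ => by rw [hh]; norm_num)
    · have hh : Nat.card K = 3150 := by rw [h] at hmul; omega
      exact seven_excluded hG h7 K (by rw [hh]; norm_num) (by rw [hh]; norm_num)
        (fun _ => by rw [hh]; norm_num)
  have htop : ∀ {Y : Type _} [MulAction (Cfsg.PSU 3 F 5) Y] (y : Y),
      orbit K y = orbit (Cfsg.PSU 3 F 5) y := fun y => by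
    ext z
    exact ⟨fun ⟨k, hk⟩ => ⟨k.1, hk⟩, fun ⟨g, hg⟩ => ⟨⟨g, hKtop ▸ Subgroup.mem_top g⟩, hg⟩⟩
  refine ⟨?_, stabilizer (Cfsg.PSU 3 F 5) (S 0), ?_⟩
  swap
  · rw [Subgroup.index, ← Nat.card_congr (orbitEquivQuotientStabilizer _ (S 0)),
      ← htop (S 0)]
    exact hc2
  intro H hH
  set x₀ := Pt e (look isoTable 0)
  have hX : Nat.card (orbit (Cfsg.PSU 3 F 5) x₀) = 126 := by
    rw [← htop x₀]; exact hc1
  refine index_ge (X := orbit (Cfsg.PSU 3 F 5) x₀) hG h7 hX ?_ ?_ H hH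
  · intro g hg5 hg1 x y hx hy
    obtain ⟨A, rfl⟩ := QuotientGroup.mk_surjective g
    have hmem : ∀ z : orbit (Cfsg.PSU 3 F 5) x₀, ∃ v : Fin 3 → F, ∃ hv : v ≠ 0,
        Projectivization.mk F v hv = z.1 ∧ herm σ v v = 0 := by
      intro z
      have hz : z.1 ∈ (fun j => Pt e (look isoTable j)) '' Set.Iio 126 := by
        rw [← ho1, htop]; exact z.2
      obtain ⟨j, hj, hjz⟩ := hz
      refine ⟨vecF e (look isoTable j), vecF_ne e (iso_spec j hj).1,
        (Pt_eq e (iso_spec j hj).1).symm.trans hjz, ?_⟩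
      have := congrArg e (iso_spec j hj).2
      simpa [herm, vecF, hσq, pow_succ, mul_assoc] using this
    obtain ⟨v, hv, hvx, hvv⟩ := hmem x
    obtain ⟨w, hw, hwy, hww⟩ := hmem y
    by_contra hne
    have hfix : ∀ (u : Fin 3 → F) (hu : u ≠ 0) (z : orbit (Cfsg.PSU 3 F 5) x₀),
        Projectivization.mk F u hu = z.1 → (QuotientGroup.mk A : Cfsg.PSU 3 F 5) • z = z →
        ∃ l : F, (A.1 : Matrix (Fin 3) (Fin 3) F) *ᵥ u = l • u := by
      intro u hu z huz hz
      have h1 : A.1 • Projectivization.mk F u hu = Projectivization.mk F u hu := by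
        rw [huz]; exact congrArg Subtype.val hz
      rw [sl_smul_mk A.1 hu (mulVec_ne A.1 hu), Projectivization.mk_eq_mk_iff'] at h1
      obtain ⟨l, hl⟩ := h1
      exact ⟨l, hl.symm⟩
    obtain ⟨l, hl⟩ := hfix v hv x hvx hx
    obtain ⟨m, hm⟩ := hfix w hw y hwy hy
    have hd : ∀ t : F, w ≠ t • v := fun t ht => hne (Subtype.ext (by
      rw [← hvx, ← hwy]
      exact ((Projectivization.mk_eq_mk_iff' F _ _ hw hv).2 ⟨t, ht.symm⟩).symm))
    have hA5 : A ^ 5 ∈ Subgroup.center (Cfsg.SU 3 F 5) :=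
      (QuotientGroup.eq_one_iff _).1 (by rw [QuotientGroup.mk_pow]; exact hg5)
    obtain ⟨c, hc⟩ := (CfsgLib.FormRep.Unitary.center_iff le_rfl (by rw [hF]; norm_num) σ hσq hσ _).1 hA5
    have hM : ∀ u u' : Fin 3 → F, herm σ ((A.1 : Matrix (Fin 3) (Fin 3) F) *ᵥ u)
        ((A.1 : Matrix (Fin 3) (Fin 3) F) *ᵥ u') = herm σ u u' := fun u u' => by
      rw [← herm_hermForm hσq, ← herm_hermForm hσq]
      exact A.2 u u'
    obtain ⟨d, hd'⟩ := eq_scalar σ hσ _ hM (p := 5)
      (fun a b h => σ.injective (by rw [hσq, hσq, h])) (c := c)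
      (by rw [← Matrix.SpecialLinearGroup.coe_pow]; exact hc) hv hw hd hvv hww hl hm
    exact hg1 ((QuotientGroup.eq_one_iff _).2
      ((CfsgLib.FormRep.Unitary.center_iff le_rfl (by rw [hF]; norm_num) σ hσq hσ A).2 ⟨d, hd'⟩))
  · intro x
    have h1 := Subgroup.card_mul_index (stabilizer (Cfsg.PSU 3 F 5) x)
    have h2 : (stabilizer (Cfsg.PSU 3 F 5) x).index = 126 := by
      rw [MulAction.index_stabilizer_of_transitive _ x, hX]
    rw [h2, hG] at h1
    exact ⟨1, by omega⟩

end CfsgLib.UThreeFive
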