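import Cfsg.Agent.Lib.Classical.UThreeFive.Check

set_option autoImplicit false

/-!
Orbits of the closure of a certified generating set, and the image of a mask.
-/

namespace CfsgLib.UThreeFive

open MulAction

variable {G Y : Type*} [Group G] [MulAction G Y]

/-- A certified list is an orbit of the generated subgroup. -/
theorem orbit_eq_image (gen : Bool → G) {n : ℕ} (hn : 0 < n) (f : ℕ → Y)
    (hinj : ∀ j < n, ∀ j' < n, f j = f j' → j = j') (img : Bool → ℕ → ℕ)
    (himg : ∀ b, ∀ j < n, img b j < n ∧ gen b • f j = f (img b j)) (par : ℕ → Bool × ℕ)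
    (hpar : ∀ j < n, j ≠ 0 → (par j).2 < j ∧ img (par j).1 (par j).2 = j) :
    orbit (Subgroup.closure (Set.range gen)) (f 0) = f '' Set.Iio n ∧
      Nat.card (orbit (Subgroup.closure (Set.range gen)) (f 0)) = n := by
  classical
  set K := Subgroup.closure (Set.range gen)
  have hmem : ∀ g ∈ K, ∀ j < n, ∃ j' < n, g • f j = f j' := by
    intro g hg
    induction hg using Subgroup.closure_induction with
    | mem x hx =>
      obtain ⟨b, rfl⟩ := hx
      exact fun j hj => ⟨_, (himg b j hj).1, (himg b j hj).2⟩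
    | one => exact fun j hj => ⟨j, hj, one_smul _ _⟩
    | mul x y _ _ hx hy =>
      intro j hj
      obtain ⟨i, hi, ei⟩ := hy j hj
      obtain ⟨k, hk, ek⟩ := hx i hi
      exact ⟨k, hk, by rw [mul_smul, ei, ek]⟩
    | inv x _ hx =>
      choose m hm he using hx
      let φ : Fin n → Fin n := fun j => ⟨m j j.2, hm j j.2⟩
      have hφ : Function.Surjective φ := Finite.surjective_of_injective fun a b h => by
        have h' : m a a.2 = m b b.2 := congrArg Fin.val h
        exact Fin.ext (hinj _ a.2 _ b.2 (MulAction.injective x (show x • f a = x • f b by rw [he _ a.2, he _ b.2, h'])))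
      intro j hj
      obtain ⟨i, hi⟩ := hφ ⟨j, hj⟩
      have h2 : m i i.2 = j := congrArg Fin.val hi
      exact ⟨i, i.2, by rw [inv_smul_eq_iff, he _ i.2, h2]⟩
  have hreach : ∀ j < n, f j ∈ orbit K (f 0) := by
    intro j
    induction j using Nat.strong_induction_on with
    | _ j ih =>
      intro hj
      rcases eq_or_ne j 0 with rfl | h0
      · exact mem_orbit_self _
      obtain ⟨hlt, he⟩ := hpar j hj h0
      obtain ⟨k, hk⟩ := ih _ hlt (hlt.trans hj)
      refine ⟨⟨gen (par j).1, Subgroup.subset_closure ⟨_, rfl⟩⟩ * k, ?_⟩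
      show (_ * k) • f 0 = f j
      rw [mul_smul, show k • f 0 = f (par j).2 from hk]
      exact ((himg _ _ (hlt.trans hj)).2).trans (by rw [he])
  have heq : orbit K (f 0) = f '' Set.Iio n := by
    refine Set.Subset.antisymm ?_ ?_
    · rintro _ ⟨k, rfl⟩
      obtain ⟨j, hj, e⟩ := hmem k.1 k.2 0 hn
      exact ⟨j, hj, e.symm⟩
    · rintro _ ⟨j, hj, rfl⟩
      exact hreach j hj
  refine ⟨heq, ?_⟩
  rw [heq, Nat.card_image_of_injOn (s := Set.Iio n) (fun a ha b hb h => hinj a ha b hb h)]
  simp

theorem testBit_foldl_or (φ : ℕ → ℕ) (j : ℕ) : ∀ (l : List ℕ) (a : ℕ),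
    (l.foldl (fun acc i => acc ||| 2 ^ φ i) a).testBit j = true ↔
      a.testBit j = true ∨ ∃ i ∈ l, φ i = j
  | [], a => by simp
  | x :: l, a => by
    rw [List.foldl_cons, testBit_foldl_or φ j l, Nat.testBit_or, Bool.or_eq_true, Nat.testBit_two_pow]
    simp [or_assoc]

theorem testBit_imgMask (b : Bool) (m j : ℕ) :
    (imgMask b m).testBit j = true ↔ ∃ i < 651, m.testBit i = true ∧ pim b i = j := by
  unfold imgMask
  rw [testBit_foldl_or]
  simp [members, and_assoc]

end CfsgLib.UThreeFive
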